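import Groth.Prelude.Def_HRes
import Groth.Agent.HRes16.PullConst

/-!
# Degree zero cohomology on big sites: sections, naturally in the object
-/

set_option autoImplicit false
set_option backward.isDefEq.respectTransparency false

universe u

open CategoryTheory CategoryTheory.Limits AlgebraicGeometry Opposite

namespace Groth.Agent.TateZero27

variable (K : Precoverage Scheme.{u}) {S : Scheme.{u}}

abbrev ZU : AddCommGrpCat.{u + 1} := AddCommGrpCat.of (ULift.{u + 1} ℤ)

noncomputable abbrev csh (S : Scheme.{u}) : BigSite.Ab K S :=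
  (constantSheaf (QuotSh.J K S) AddCommGrpCat.{u + 1}).obj ZU

abbrev top (S : Scheme.{u}) : Over S := Over.mk (𝟙 S)

/-- the section `1` of the constant sheaf over `U` -/
noncomputable def one (U : Over S) : (csh K S).obj.obj (op U) :=
  (toSheafify (QuotSh.J K S) ((Functor.const _).obj ZU)).app (op U) (ULift.up (1 : ℤ))

theorem map_one {U V : Over S} (g : V ⟶ U) : (csh K S).obj.map g.op (one K U) = one K V :=
  (ConcreteCategory.congr_hom
    ((toSheafify (QuotSh.J K S) ((Functor.const _).obj ZU)).naturality g.op).symm (ULift.up (1 : ℤ)))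

theorem hom_one_map {F : BigSite.Ab K S} (φ : csh K S ⟶ F) {U V : Over S} (g : V ⟶ U) :
    F.obj.map g.op (φ.hom.app (op U) (one K U)) = φ.hom.app (op V) (one K V) := by
  have h := ConcreteCategory.congr_hom (φ.hom.naturality g.op) (one K U)
  refine Eq.trans h.symm ?_
  exact congrArg (φ.hom.app (op V)) (map_one K g)

theorem hom_ext_one {F : BigSite.Ab K S} {φ ψ : csh K S ⟶ F}
    (h : φ.hom.app (op (top S)) (one K (top S)) = ψ.hom.app (op (top S)) (one K (top S))) : φ = ψ := by
  refine Sheaf.hom_ext (sheafify_hom_ext _ _ _ (ObjectProperty.FullSubcategory.property _) ?_)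
  ext U : 2
  refine AddCommGrpCat.ext fun n => ?_
  obtain ⟨n⟩ := n
  have hn : (ULift.up n : ULift.{u + 1} ℤ) = n • ULift.up (1 : ℤ) := by
    ext; simp
  rw [hn, map_zsmul, map_zsmul]
  congr 1
  change φ.hom.app U (one K U.unop) = ψ.hom.app U (one K U.unop)
  rw [← hom_one_map K φ (Over.homMk U.unop.hom (Category.comp_id _) : U.unop ⟶ top S),
    ← hom_one_map K ψ (Over.homMk U.unop.hom (Category.comp_id _) : U.unop ⟶ top S), h]

theorem exists_hom_one {F : BigSite.Ab K S} (s : F.obj.obj (op (top S))) :
    ∃ φ : csh K S ⟶ F, φ.hom.app (op (top S)) (one K (top S)) = s := by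
  let η : (Functor.const (Over S)ᵒᵖ).obj ZU.{u} ⟶ F.obj :=
    { app := fun U => AddCommGrpCat.ofHom
        { toFun := fun n => n.down • F.obj.map (Over.homMk U.unop.hom (Category.comp_id _) : U.unop ⟶ top S).op s
          map_zero' := by simp
          map_add' := fun a b => by simp [add_zsmul] }
      naturality := fun U V g => by
        refine AddCommGrpCat.ext fun n => ?_
        change n.down • _ = F.obj.map g (n.down • _)
        rw [map_zsmul]
        congr 1
        refine Eq.trans ?_ (ConcreteCategory.congr_hom (F.obj.map_comp _ _) s)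
        exact congrArg (fun m => F.obj.map m s) (Quiver.Hom.unop_inj (Over.OverMorphism.ext (Over.w g.unop).symm)) }
  refine ⟨⟨sheafifyLift (QuotSh.J K S) η F.property⟩, ?_⟩
  have h := ConcreteCategory.congr_hom
    (congr_app (toSheafify_sheafifyLift (QuotSh.J K S) η F.property) (op (top S))) (ULift.up (1 : ℤ))
  refine Eq.trans h ?_
  change (1 : ℤ) • F.obj.map _ s = s
  rw [one_zsmul]
  have : (Over.homMk (top S).hom (Category.comp_id _) : top S ⟶ top S) = 𝟙 _ :=
    Over.OverMorphism.ext rfl
  exact (congrArg (fun m : top S ⟶ top S => F.obj.map m.op s) this).trans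
    (ConcreteCategory.congr_hom (F.obj.map_id _) s)

/-- degree zero classes are sections over the base -/
noncomputable def ev (F : BigSite.Ab K S) (x : BigSite.H K S F 0) : F.obj.obj (op (top S)) :=
  (Abelian.Ext.addEquiv₀ x).hom.app (op (top S)) (one K (top S))

theorem ev_bijective (F : BigSite.Ab K S) : Function.Bijective (ev K F) := by
  constructor
  · intro x y h
    exact Abelian.Ext.addEquiv₀.injective (hom_ext_one K h)
  · intro s
    obtain ⟨φ, hφ⟩ := exists_hom_one K s
    exact ⟨Abelian.Ext.addEquiv₀.symm φ, by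
      simp only [ev, AddEquiv.apply_symm_apply]; exact hφ⟩

theorem addEquiv₀_mk₀ {C : Type*} [Category C] [Abelian C] [HasExt C] {X Y : C} (f : X ⟶ Y) :
    Abelian.Ext.addEquiv₀ (Abelian.Ext.mk₀ f) = f :=
  Abelian.Ext.addEquiv₀.apply_symm_apply f

/-- the comparison of `T` with the restriction of the terminal object -/
def topIso (T : Over S) : T ⟶ (Over.map T.hom).obj (top T.left) :=
  Over.homMk (𝟙 T.left) (by simp)

/-- degree zero classes over `T` are sections over `T` -/
noncomputable def sectU (F : BigSite.Ab K S) (T : Over S) (x : BigSite.HU K F 0 T) : F.obj.obj (op T) :=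
  F.obj.map (topIso T).op (ev K ((BigSite.pullBig K T.hom AddCommGrpCat.{u + 1}).obj F) x)

theorem sectU_bijective (F : BigSite.Ab K S) (T : Over S) : Function.Bijective (sectU K F T) := by
  have : IsIso (topIso T) := by
    refine ⟨Over.homMk (𝟙 T.left) (by simp [topIso]), ?_, ?_⟩ <;>
      exact Over.OverMorphism.ext (Category.comp_id _)
  refine Function.Bijective.comp ?_ (ev_bijective K _)
  exact (ConcreteCategory.bijective_of_isIso (F.obj.map (topIso T).op))

theorem sectU_resHU (F : BigSite.Ab K S) {T T' : Over S} (g : T' ⟶ T) (x : BigSite.HU K F 0 T) :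
    sectU K F T' (HRes.resHU K F 0 g x) = F.obj.map g.op (sectU K F T x) := by
  obtain ⟨φ, rfl⟩ := Abelian.Ext.addEquiv₀.symm.surjective x
  simp only [sectU, ev, HRes.resHU, AddMonoidHom.coe_comp, Function.comp_apply, Abelian.Ext.addEquiv₀_symm_apply]
  rw [HRes.pull_apply, Abelian.Ext.mapExactFunctor_mk₀, Abelian.Ext.mk₀_comp_mk₀, Sheaf.H.map_apply,
    Abelian.Ext.mk₀_comp_mk₀, addEquiv₀_mk₀, addEquiv₀_mk₀]
  have h1 : (HRes.pullConst K g.left ZU).inv.hom.app (op (top T'.left)) (one K (top T'.left)) =
      one K ((Over.map g.left).obj (top T'.left)) :=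
    ConcreteCategory.congr_hom
      (congr_app (Groth.Agent.HRes16.toSheafify_pullConst_inv K g.left ZU) (op (top T'.left))) (ULift.up (1 : ℤ))
  let e : (Over.map T'.hom).obj (top T'.left) ⟶ (Over.map T.hom).obj ((Over.map g.left).obj (top T'.left)) :=
    Over.homMk (𝟙 T'.left) (by simp [Over.w g])
  have h2 := hom_one_map K φ
    (Over.homMk g.left (by simp) : (Over.map g.left).obj (top T'.left) ⟶ top T.left)
  have h3 : ∀ y, (HRes.pullIso K F g).hom.hom.app (op (top T'.left)) y = F.obj.map e.op y := by
    intro y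
    simp [HRes.pullIso, GrothendieckTopology.overMapPullbackCongr, Functor.sheafPushforwardContinuousIso]
    refine Eq.trans (ConcreteCategory.congr_hom (F.obj.map_comp _ _).symm y) ?_
    refine congrArg (fun m => F.obj.map m y) (Quiver.Hom.unop_inj (Over.OverMorphism.ext ?_))
    simp [e, Over.mapCongr, Over.mapComp]
  refine Eq.trans (congrArg (F.obj.map (topIso T').op) ((h3 _).trans (congrArg (F.obj.map e.op)
    ((congrArg (φ.hom.app _) h1).trans h2.symm)))) ?_
  refine Eq.trans ?_ (ConcreteCategory.congr_hom (F.obj.map_comp (topIso T).op g.op) _)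
  let z := φ.hom.app (op (top T.left)) (one K (top T.left))
  let m₁ : (Over.map T.hom).obj ((Over.map g.left).obj (top T'.left)) ⟶ (Over.map T.hom).obj (top T.left) :=
    (Over.map T.hom).map (Over.homMk g.left (by simp) : (Over.map g.left).obj (top T'.left) ⟶ top T.left)
  change F.obj.map (topIso T').op (F.obj.map e.op (F.obj.map m₁.op z)) = F.obj.map ((topIso T).op ≫ g.op) z
  refine Eq.trans (congrArg (F.obj.map (topIso T').op) (ConcreteCategory.congr_hom (F.obj.map_comp _ _).symm z)) ?_
  refine Eq.trans (ConcreteCategory.congr_hom (F.obj.map_comp _ _).symm z) ?_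
  refine congrArg (fun m => F.obj.map m z) (Quiver.Hom.unop_inj (Over.OverMorphism.ext ?_))
  simp [e, m₁, topIso]

end Groth.Agent.TateZero27
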