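import Groth.Agent.AlgzPiLib.PiPoints
import Mathlib.RingTheory.Valuation.ValuationSubring
import Mathlib.AlgebraicGeometry.Morphisms.FiniteType

/-!
# Points with values in restricted products are integral almost everywhere
-/

set_option autoImplicit false
set_option backward.isDefEq.respectTransparency false

universe u

open CategoryTheory CategoryTheory.Limits AlgebraicGeometry

namespace Groth.Agent.TateZero27

theorem exists_unit_of_sum {F : Type*} [Field F] (O : ValuationSubring F) {J : Type*} [Fintype J]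
    (a c : J → F) (ha : ∀ k, a k ∈ O) (hc : ∀ k, c k ∈ O) (hs : ∑ k, c k * a k = 1) :
    ∃ k, a k ≠ 0 ∧ (a k)⁻¹ ∈ O := by
  by_contra h
  push Not at h
  have hmem : ∀ k, (⟨a k, ha k⟩ : O) ∈ IsLocalRing.maximalIdeal O := by
    intro k hu
    obtain ⟨u, hu⟩ := hu
    have h1 : a k * ((u⁻¹ : Oˣ) : O).1 = 1 := by
      have := congrArg Subtype.val u.mul_inv
      rw [hu] at this
      exact this
    have h0 : a k ≠ 0 := left_ne_zero_of_mul_eq_one h1
    refine h k h0 ?_
    rw [← eq_inv_of_mul_eq_one_right h1]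
    exact ((u⁻¹ : Oˣ) : O).2
  have h1 : (1 : O) ∈ IsLocalRing.maximalIdeal O := by
    have : (1 : O) = ∑ k, (⟨c k, hc k⟩ : O) * ⟨a k, ha k⟩ := by
      apply O.subtype_injective
      rw [map_one, map_sum]
      simpa using hs.symm
    rw [this]
    exact sum_mem fun k _ => Ideal.mul_mem_left _ _ (hmem k)
  exact (IsLocalRing.maximalIdeal.isMaximal O).ne_top ((Ideal.eq_top_iff_one _).2 h1)

theorem eventually_exists_integral {R A : CommRingCat.{u}} {X : Scheme.{u}} (p : X ⟶ Spec R)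
    [LocallyOfFiniteType p] [CompactSpace X] {I : Type*} (F : I → Type u) [∀ i, Field (F i)]
    (O : ∀ i, ValuationSubring (F i)) (π : ∀ i, A →+* F i)
    (hint : ∀ a : A, ∀ᶠ i in Filter.cofinite, π i a ∈ O i)
    (σ : R ⟶ A) (x : Spec A ⟶ X) (hx : x ≫ p = Spec.map σ) :
    ∀ᶠ i in Filter.cofinite, (∀ r : R, π i (σ r) ∈ O i) →
      ∃ y : Spec (CommRingCat.of (O i)) ⟶ X,
        Spec.map (CommRingCat.ofHom (O i).subtype) ≫ y = Spec.map (CommRingCat.ofHom (π i)) ≫ x := by
  let 𝒰 : X.OpenCover := X.affineCover.finiteSubcover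
  have _ : Fintype 𝒰.I₀ := Fintype.ofFinite _
  have _ : ∀ k : 𝒰.I₀, IsAffine (𝒰.X k) := fun k => inferInstanceAs (IsAffine (Spec _))
  obtain ⟨a, ha, hmem⟩ :=
    Groth.Agent.AlgzPiLib.exists_partition (fun k : 𝒰.I₀ => (𝒰.f k).opensRange) 𝒰.iSup_opensRange x
  obtain ⟨c, hc⟩ := (Ideal.mem_span_range_iff_exists_fun).1 (ha ▸ Submodule.mem_top : (1 : A) ∈ Ideal.span (Set.range a))
  let j : ∀ k, Spec Γ(𝒰.X k, ⊤) ⟶ X := fun k => (𝒰.X k).isoSpec.inv ≫ 𝒰.f k
  let ψ : ∀ k, R ⟶ Γ(𝒰.X k, ⊤) := fun k => Spec.preimage (j k ≫ p)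
  have hψ : ∀ k, (ψ k).hom.FiniteType := fun k => by
    rw [← HasRingHomProperty.Spec_iff (P := @LocallyOfFiniteType), Spec.map_preimage]
    infer_instance
  have hl : ∀ k, ∃ φ : Γ(𝒰.X k, ⊤) ⟶ CommRingCat.of (Localization.Away (a k)),
      Spec.map φ ≫ j k = Spec.map (CommRingCat.ofHom (algebraMap A (Localization.Away (a k)))) ≫ x := by
    intro k
    let g := Spec.map (CommRingCat.ofHom (algebraMap A (Localization.Away (a k)))) ≫ x
    have hr : Set.range g ⊆ Set.range (j k) := by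
      rintro _ ⟨q, rfl⟩
      have h1 : g q ∈ (𝒰.f k).opensRange := hmem k _ (fun hq => q.isPrime.ne_top
        (Ideal.eq_top_of_isUnit_mem _ hq (IsLocalization.Away.algebraMap_isUnit (a k))))
      obtain ⟨z, hz⟩ := h1
      exact ⟨(𝒰.X k).isoSpec.hom z, by rw [← Scheme.Hom.comp_apply, Iso.hom_inv_id_assoc]; exact hz⟩
    exact ⟨Spec.preimage (IsOpenImmersion.lift (j k) g hr), by rw [Spec.map_preimage, IsOpenImmersion.lift_fac]⟩
  choose φ hφ using hl
  have hgen : ∀ k, ∃ s : Finset Γ(𝒰.X k, ⊤), ∀ (T : Subring Γ(𝒰.X k, ⊤)),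
      (∀ r, ψ k r ∈ T) → (↑s ⊆ (T : Set Γ(𝒰.X k, ⊤))) → ∀ b, b ∈ T := by
    intro k
    letI := (ψ k).hom.toAlgebra
    obtain ⟨s, hs⟩ := (hψ k).out
    refine ⟨s, fun T hT hsT b => ?_⟩
    have hb : b ∈ Algebra.adjoin R (↑s : Set Γ(𝒰.X k, ⊤)) := hs ▸ trivial
    refine Algebra.adjoin_induction (p := fun z _ => z ∈ T) (fun z hz => hsT hz) (fun r => hT r)
      (fun _ _ _ _ => T.add_mem) (fun _ _ _ _ => T.mul_mem) hb
  choose s hs using hgen
  choose N a' ha' using fun (k : 𝒰.I₀) (b : Γ(𝒰.X k, ⊤)) =>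
    IsLocalization.Away.surj (a k) (φ k b)
  have hev : ∀ᶠ i in Filter.cofinite, ∀ k, (π i (a k) ∈ O i ∧ π i (c k) ∈ O i) ∧
      ∀ b ∈ s k, π i (a' k b) ∈ O i :=
    Filter.eventually_all.2 fun k => ((hint _).and (hint _)).and
      ((Filter.eventually_all_finset _).2 fun b _ => hint _)
  refine hev.mono fun i hi hR => ?_
  obtain ⟨k, hk0, hk⟩ := exists_unit_of_sum (O i) (fun k => π i (a k)) (fun k => π i (c k))
    (fun k => (hi k).1.1) (fun k => (hi k).1.2) (by
      simp only [← map_mul, ← map_sum, hc, map_one])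
  let L : Localization.Away (a k) →+* F i := IsLocalization.Away.lift (a k) (isUnit_iff_ne_zero.2 hk0)
  have hL : ∀ z, L (algebraMap A (Localization.Away (a k)) z) = π i z := fun z =>
    IsLocalization.Away.lift_eq (a k) _ z
  let θ : Γ(𝒰.X k, ⊤) →+* F i := L.comp (φ k).hom
  have hR' : ∀ r, θ (ψ k r) = π i (σ r) := by
    have h1 : Spec.map (ψ k ≫ φ k) =
        Spec.map (σ ≫ CommRingCat.ofHom (algebraMap A (Localization.Away (a k)))) := by
      rw [Spec.map_comp, Spec.map_comp, Spec.map_preimage, ← Category.assoc, hφ, Category.assoc, hx]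
    intro r
    have h2 := ConcreteCategory.congr_hom (Spec.map_injective h1) r
    change L (φ k (ψ k r)) = _
    exact (congrArg L h2).trans (hL _)
  have hθ : ∀ b, θ b ∈ O i := hs k ((O i).toSubring.comap θ) (fun r => show θ (ψ k r) ∈ O i from (hR' r) ▸ hR r) fun b hb => by
    have h1 := congrArg L (ha' k b)
    rw [map_mul, map_pow, hL, hL] at h1
    change θ b ∈ O i
    have h2 : θ b = π i (a' k b) * ((π i (a k))⁻¹) ^ N k b := by
      rw [← h1, inv_pow, mul_assoc, mul_inv_cancel₀ (pow_ne_zero _ hk0), mul_one]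
      rfl
    rw [h2]
    exact mul_mem ((hi k).2 b hb) (pow_mem hk _)
  refine ⟨Spec.map (CommRingCat.ofHom (θ.codRestrict (O i).toSubring hθ)) ≫ j k, ?_⟩
  have h1 : CommRingCat.ofHom (π i) = CommRingCat.ofHom (algebraMap A (Localization.Away (a k))) ≫ CommRingCat.ofHom L :=
    CommRingCat.hom_ext (RingHom.ext fun z => (hL z).symm)
  rw [h1, Spec.map_comp_assoc, ← hφ, ← Spec.map_comp_assoc, ← Spec.map_comp_assoc]
  exact congrArg (fun t => Spec.map t ≫ j k) (CommRingCat.hom_ext (RingHom.ext fun z => rfl))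

theorem eq_of_injective_pi {A : CommRingCat.{u}} {S : Scheme.{u}} {X : Scheme.{u}} (p : X ⟶ S) [IsSeparated p]
    [QuasiSeparatedSpace X] {I : Type u} (F : I → Type u) [∀ i, Field (F i)] (π : ∀ i, A →+* F i)
    (hinj : Function.Injective (RingHom.pi π)) (x y : Spec A ⟶ X) (hp : x ≫ p = y ≫ p)
    (h : ∀ i, Spec.map (CommRingCat.ofHom (π i)) ≫ x = Spec.map (CommRingCat.ofHom (π i)) ≫ y) : x = y := by
  have : _root_.IsReduced A := isReduced_of_injective (RingHom.pi π) hinj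
  let ι : Spec (CommRingCat.of (∀ i, F i)) ⟶ Spec A := Spec.map (CommRingCat.ofHom (RingHom.pi π))
  have : IsDominant ι := ⟨(PrimeSpectrum.denseRange_comap_iff_ker_le_nilRadical _).2 (by
    rw [CommRingCat.hom_ofHom, (RingHom.injective_iff_ker_eq_bot _).1 hinj]; exact bot_le)⟩
  refine ext_of_isDominant_of_isSeparated p hp ι ?_
  refine pointsPi_injective (fun i => CommRingCat.of (F i)) X (funext fun i => ?_)
  simp only [pointsPi, ι, ← Spec.map_comp_assoc]
  exact h i

end Groth.Agent.TateZero27
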