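import Groth.Prelude.Def_AdFn
import Groth.Agent.TateZero27.H0
import Groth.Agent.TateZero27.Integral

/-!
# Degree zero: points over the adeles are the restricted product of local points
-/

set_option autoImplicit false
set_option backward.isDefEq.respectTransparency false

universe u

open CategoryTheory CategoryTheory.Limits AlgebraicGeometry Opposite

namespace Groth.Agent.TateZero27

variable (P : Precoverage Scheme.{u}) {S : Scheme.{u}} [(QuotSh.J P S).Subcanonical]
  (G : Over S) [GrpObj G] [IsCommMonObj G]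

/-- the point attached to a degree zero class -/
noncomputable def pt (T : Over S) (x : BigSite.HU P (CGrpSh.pts P G) 0 T) : T ⟶ G :=
  (sectU P (CGrpSh.pts P G) T x).down.toMul

theorem pt_bijective (T : Over S) : Function.Bijective (pt P G T) :=
  (Equiv.ulift.trans Additive.toMul).bijective.comp (sectU_bijective P _ T)

theorem pt_resHU {T T' : Over S} (g : T' ⟶ T) (x : BigSite.HU P (CGrpSh.pts P G) 0 T) :
    pt P G T' (HRes.resHU P (CGrpSh.pts P G) 0 g x) = g ≫ pt P G T x := by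
  unfold pt
  rw [sectU_resHU]
  rfl

theorem spec_over_injective {k O F : Type u} [CommRing k] [CommRing O] [CommRing F] {X : Scheme.{u}}
    (p : X ⟶ Spec (CommRingCat.of k)) (σ : k →+* O) (ι : O →+* F) (hι : Function.Injective ι)
    (y : Spec (CommRingCat.of O) ⟶ X)
    (h : Spec.map (CommRingCat.ofHom ι) ≫ y ≫ p = Spec.map (CommRingCat.ofHom (ι.comp σ))) :
    y ≫ p = Spec.map (CommRingCat.ofHom σ) := by
  rw [← Spec.map_preimage (y ≫ p)] at h ⊢
  rw [← Spec.map_comp] at h
  have h1 := Spec.map_injective h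
  refine congrArg Spec.map (CommRingCat.hom_ext (RingHom.ext fun s => hι ?_))
  exact ConcreteCategory.congr_hom h1 s

theorem adProjS_injective {k K : Type u} [Field k] [Field K] [Algebra k K] [AdFn.HasFinitePoles k K]
    (Sp : Set (FunFld.Place k K)) (𝒢 : Over (Spec (CommRingCat.of (AdFn.SInt Sp)))) [IsSeparated 𝒢.hom]
    (x y : AdFn.specOf (AdFn.SInt.toAd Sp) ⟶ 𝒢)
    (h : ∀ v, AdFn.adProjSHom Sp v ≫ x = AdFn.adProjSHom Sp v ≫ y) : x = y := by
  apply Over.OverMorphism.ext
  have : QuasiSeparatedSpace 𝒢.left := quasiSeparatedSpace_of_quasiSeparated 𝒢.hom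
  refine eq_of_injective_pi 𝒢.hom (fun v => AdFn.Kv v) (fun v => AdFn.AdeleRing.proj v) ?_ x.left y.left
    ((Over.w x).trans (Over.w y).symm) fun v => congrArg (fun t => t.left) (h v)
  intro a b hab
  exact Subtype.ext (funext fun v => congrFun hab v)

theorem locProdS_zero {k K : Type u} [Field k] [Field K] [Algebra k K] [AdFn.HasFinitePoles k K]
    (Sp : Set (FunFld.Place k K)) (hS : Sp.Finite)
    [(QuotSh.J P (Spec (CommRingCat.of (AdFn.SInt Sp)))).Subcanonical]
    (𝒢 : Over (Spec (CommRingCat.of (AdFn.SInt Sp)))) [GrpObj 𝒢] [IsCommMonObj 𝒢]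
    [IsSeparated 𝒢.hom] [LocallyOfFiniteType 𝒢.hom] [QuasiCompact 𝒢.hom] :
    Function.Injective (AdFn.locProdS P Sp (CGrpSh.pts P 𝒢) 0) ∧
      Set.range (AdFn.locProdS P Sp (CGrpSh.pts P 𝒢) 0) =
        Set.range (fun y : AdFn.LocRP P Sp (CGrpSh.pts P 𝒢) 0 =>
          (⇑y : (v : FunFld.Place k K) → AdFn.HLocS P Sp (CGrpSh.pts P 𝒢) 0 v)) := by
  have : QuasiSeparatedSpace 𝒢.left := quasiSeparatedSpace_of_quasiSeparated 𝒢.hom
  have : CompactSpace 𝒢.left := QuasiCompact.compactSpace_of_compactSpace 𝒢.hom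
  refine ⟨fun x y h => (pt_bijective P 𝒢 _).1 ?_, ?_⟩
  · refine adProjS_injective Sp 𝒢 _ _ fun v => ?_
    rw [← pt_resHU, ← pt_resHU]
    exact congrArg (pt P 𝒢 _) (congrFun h v)
  ext f
  constructor
  · rintro ⟨x, rfl⟩
    refine ⟨⟨_, ?_⟩, rfl⟩
    let q := pt P 𝒢 _ x
    have hint : ∀ a : CommRingCat.of (AdFn.AdeleRing k K), ∀ᶠ v in Filter.cofinite,
        (AdFn.AdeleRing.proj v : CommRingCat.of (AdFn.AdeleRing k K) →+* AdFn.Kv v) a ∈ AdFn.Ov v :=
      fun a => (show AdFn.AdeleRing k K from a).2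
    have hev := eventually_exists_integral (R := CommRingCat.of (AdFn.SInt Sp))
      (A := CommRingCat.of (AdFn.AdeleRing k K)) 𝒢.hom (fun v => AdFn.Kv v) (fun v => AdFn.Ov v)
      (fun v => AdFn.AdeleRing.proj v) hint (CommRingCat.ofHom (AdFn.SInt.toAd Sp)) q.left (Over.w q)
    refine (hev.and hS.compl_mem_cofinite).mono fun v hv => ?_
    obtain ⟨hv, hvS⟩ := hv
    obtain ⟨y, hy⟩ := hv fun r => (AdFn.toKv_mem_Ov v r.1).2 (r.2 v hvS)
    let Y : AdFn.specOf (AdFn.SInt.toOv Sp hvS) ⟶ 𝒢 := Over.homMk y (by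
      refine spec_over_injective 𝒢.hom _ (AdFn.Ov v).subtype (AdFn.Ov v).subtype_injective y ?_
      rw [reassoc_of% hy]
      refine (congrArg (fun t => _ ≫ t) (Over.w q)).trans ?_
      exact (Spec.map_comp _ _).symm.trans rfl)
    obtain ⟨z, hz⟩ := (pt_bijective P 𝒢 _).2 Y
    refine AddSubgroup.mem_iSup_of_mem hvS ⟨z, (pt_bijective P 𝒢 _).1 ?_⟩
    change pt P 𝒢 _ (HRes.resHU P _ 0 (AdFn.intResHom Sp hvS) z) = pt P 𝒢 _ (HRes.resHU P _ 0 (AdFn.adProjSHom Sp v) x)
    rw [pt_resHU, pt_resHU, hz]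
    exact Over.OverMorphism.ext hy
  · rintro ⟨y, rfl⟩
    classical
    let Good : Set (FunFld.Place k K) := {v | v ∉ Sp ∧ y v ∈ AdFn.locSub P Sp (CGrpSh.pts P 𝒢) 0 v}
    have hGood : ∀ᶠ v in Filter.cofinite, v ∈ Good :=
      (Filter.Eventually.and hS.compl_mem_cofinite y.2).mono fun v hv => hv
    let O : ∀ v, ValuationSubring (AdFn.Kv v) := fun v => if v ∈ Good then AdFn.Ov v else ⊤
    let τ : ∀ v, AdFn.SInt Sp →+* O v := fun v => (AdFn.SInt.toKv Sp v).codRestrict (O v).toSubring fun r => by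
      change AdFn.SInt.toKv Sp v r ∈ O v
      by_cases hv : v ∈ Good
      · simp only [O, if_pos hv]; exact (AdFn.toKv_mem_Ov v r.1).2 (r.2 v hv.1)
      · simp only [O, if_neg hv]; trivial
    have hf : ∀ v, ∃ f : Spec (CommRingCat.of (O v)) ⟶ 𝒢.left, f ≫ 𝒢.hom = Spec.map (CommRingCat.ofHom (τ v)) ∧
        Spec.map (CommRingCat.ofHom (O v).subtype) ≫ f = (pt P 𝒢 _ (y v)).left := by
      intro v
      suffices ∃ f : Spec (CommRingCat.of (O v)) ⟶ 𝒢.left,
          Spec.map (CommRingCat.ofHom (O v).subtype) ≫ f = (pt P 𝒢 _ (y v)).left by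
        obtain ⟨f, hf⟩ := this
        refine ⟨f, spec_over_injective 𝒢.hom (τ v) (O v).subtype (O v).subtype_injective f ?_, hf⟩
        rw [reassoc_of% hf]
        exact (Over.w (pt P 𝒢 _ (y v))).trans rfl
      by_cases hv : v ∈ Good
      · have hO : O v = AdFn.Ov v := if_pos hv
        rw [hO]
        have hm := hv.2
        rw [AdFn.locSub, iSup_pos hv.1] at hm
        obtain ⟨z, hz⟩ := hm
        refine ⟨(pt P 𝒢 _ z).left, ?_⟩
        refine Eq.trans ?_ (congrArg (fun t => (pt P 𝒢 _ t).left) hz)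
        exact (congrArg (fun t => t.left) (pt_resHU P 𝒢 (AdFn.intResHom Sp hv.1) z)).symm
      · have hO : O v = ⊤ := if_neg hv
        rw [hO]
        refine ⟨Spec.map (CommRingCat.ofHom ((RingHom.id (AdFn.Kv v)).codRestrict
          (⊤ : ValuationSubring (AdFn.Kv v)).toSubring fun _ => trivial)) ≫ (pt P 𝒢 _ (y v)).left, ?_⟩
        rw [← Spec.map_comp_assoc]
        refine Eq.trans ?_ (Category.id_comp _)
        exact congrArg (fun t => t ≫ _) ((congrArg Spec.map (CommRingCat.hom_ext (RingHom.ext fun _ => rfl))).trans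
          (Spec.map_id _))
    choose f hfp hfy using hf
    obtain ⟨g, hg⟩ := AlgebraicGeometry.pointsPi_surjective (fun v => CommRingCat.of (O v)) 𝒢.left f
    let ρ : (∀ v, O v) →+* AdFn.AdeleRing k K :=
      { toFun := fun r => ⟨fun v => (r v).1, hGood.mono fun v hv => by
          have := (r v).2
          simp only [O, if_pos hv] at this
          exact this⟩
        map_one' := rfl
        map_mul' := fun _ _ => rfl
        map_zero' := rfl
        map_add' := fun _ _ => rfl }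
    have hgp : g ≫ 𝒢.hom = Spec.map (CommRingCat.ofHom (RingHom.pi τ)) := by
      refine pointsPi_injective (fun v => CommRingCat.of (O v)) _ (funext fun v => ?_)
      simp only [pointsPi]
      rw [← Spec.map_comp]
      have h1 := congrFun hg v
      simp only [pointsPi] at h1
      rw [reassoc_of% h1, hfp]
      rfl
    let q : AdFn.specOf (AdFn.SInt.toAd Sp) ⟶ 𝒢 := Over.homMk (Spec.map (CommRingCat.ofHom ρ) ≫ g) (by
      rw [Category.assoc, hgp, ← Spec.map_comp]
      rfl)
    obtain ⟨x, hx⟩ := (pt_bijective P 𝒢 _).2 q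
    refine ⟨x, funext fun v => (pt_bijective P 𝒢 _).1 ?_⟩
    change pt P 𝒢 _ (HRes.resHU P _ 0 (AdFn.adProjSHom Sp v) x) = _
    rw [pt_resHU, hx]
    refine Over.OverMorphism.ext ?_
    refine Eq.trans ?_ (hfy v)
    have h1 := congrFun hg v
    simp only [pointsPi] at h1
    rw [← h1]
    refine (Spec.map_comp_assoc _ _ g).symm.trans (Eq.trans ?_ (Spec.map_comp_assoc _ _ g))
    exact congrArg (fun t => Spec.map t ≫ g) (CommRingCat.hom_ext (RingHom.ext fun r => rfl))

end Groth.Agent.TateZero27
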