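import Groth.Prelude.Def_AdFn
import Groth.Prelude.Def_CGrpSh2
import Groth.Agent.TateZero27.H0

/-!
# Degree zero: characters over the adeles are determined locally
-/

set_option autoImplicit false
set_option backward.isDefEq.respectTransparency false

universe u

open CategoryTheory CategoryTheory.Limits AlgebraicGeometry Opposite TensorProduct

namespace Groth.Agent.TateZero27

theorem tensor_eq_zero {K C A : Type u} [Field K] [AddCommGroup C] [Module K C] [AddCommGroup A] [Module K A]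
    {I : Type*} (B : I → Type u) [∀ i, AddCommGroup (B i)] [∀ i, Module K (B i)] (π : ∀ i, A →ₗ[K] B i)
    (hπ : ∀ a, (∀ i, π i a = 0) → a = 0) (z : C ⊗[K] A) (hz : ∀ i, (π i).lTensor C z = 0) : z = 0 := by
  classical
  let b := Module.Basis.ofVectorSpace K C
  apply (TensorProduct.equivFinsuppOfBasisLeft (N := A) b).injective
  rw [map_zero]
  ext n
  rw [Finsupp.zero_apply]
  refine hπ _ fun i => ?_
  have h : ∀ z : C ⊗[K] A, π i (TensorProduct.equivFinsuppOfBasisLeft b z n) =
      TensorProduct.equivFinsuppOfBasisLeft b ((π i).lTensor C z) n := by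
    intro z
    induction z using TensorProduct.induction_on with
    | zero => simp
    | tmul c a => simp
    | add x y hx hy => simp only [map_add, Finsupp.add_apply, hx, hy]
  rw [h, hz i, map_zero, Finsupp.zero_apply]

theorem hom_eq_of_local {K : Type u} [Field K] (C A : Type u) [CommRing C] [CommRing A] [Algebra K C] [Algebra K A]
    {I : Type*} (B : I → Type u) [∀ i, CommRing (B i)] [∀ i, Algebra K (B i)] (π : ∀ i, A →ₐ[K] B i)
    (hπ : ∀ a, (∀ i, π i a = 0) → a = 0) {M : Scheme.{u}} [IsAffine M]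
    (a b : Spec (CommRingCat.of (C ⊗[K] A)) ⟶ M)
    (h : ∀ i, Spec.map (CommRingCat.ofHom (Algebra.TensorProduct.map (AlgHom.id K C) (π i)).toRingHom) ≫ a =
      Spec.map (CommRingCat.ofHom (Algebra.TensorProduct.map (AlgHom.id K C) (π i)).toRingHom) ≫ b) : a = b := by
  rw [← cancel_mono M.isoSpec.hom, ← Spec.map_preimage (a ≫ M.isoSpec.hom), ← Spec.map_preimage (b ≫ M.isoSpec.hom)]
  refine congrArg Spec.map (CommRingCat.hom_ext (RingHom.ext fun m => sub_eq_zero.1 ?_))
  refine tensor_eq_zero B (fun i => (π i).toLinearMap) hπ _ fun i => ?_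
  have h1 := congrArg (fun t => t ≫ M.isoSpec.hom) (h i)
  simp only [Category.assoc] at h1
  rw [← Spec.map_preimage (a ≫ M.isoSpec.hom), ← Spec.map_preimage (b ≫ M.isoSpec.hom), ← Spec.map_comp,
    ← Spec.map_comp] at h1
  have h2 := ConcreteCategory.congr_hom (Spec.map_injective h1) m
  rw [map_sub, sub_eq_zero]
  exact h2

theorem dualSh_locProdS_zero_injective {P : Precoverage Scheme.{u}} {k K : Type u} [Field k] [Field K]
    [Algebra k K] [AdFn.HasFinitePoles k K] (Sp : Set (FunFld.Place k K))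
    [(QuotSh.J P (Spec (CommRingCat.of (AdFn.SInt Sp)))).Subcanonical]
    (𝒢 : Over (Spec (CommRingCat.of (AdFn.SInt Sp)))) [GrpObj 𝒢] [IsCommMonObj 𝒢]
    [IsAffine ↑(Limits.pullback 𝒢.hom (Spec.map (CommRingCat.ofHom (AdFn.SInt.toK Sp))))]
    [IsAffine (Red.Gm (Spec (CommRingCat.of (AdFn.SInt Sp)))).left] :
    Function.Injective (AdFn.locProdS P Sp (CGrpSh2.dualSh P (CGrpSh.pts P 𝒢)) 0) := by
  intro x y hxy
  refine (sectU_bijective P _ _).1 ?_
  set φ : (CGrpSh.pts P 𝒢).over (AdFn.specOf (AdFn.SInt.toAd Sp)) ⟶ _ := sectU P _ _ x with hφdef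
  set ψ : (CGrpSh.pts P 𝒢).over (AdFn.specOf (AdFn.SInt.toAd Sp)) ⟶ _ := sectU P _ _ y with hψdef
  have hloc : ∀ v, (CGrpSh2.dualSh P (CGrpSh.pts P 𝒢)).obj.map (AdFn.adProjSHom Sp v).op φ =
      (CGrpSh2.dualSh P (CGrpSh.pts P 𝒢)).obj.map (AdFn.adProjSHom Sp v).op ψ := fun v => by
    rw [hφdef, hψdef, ← sectU_resHU, ← sectU_resHU]
    exact congrArg (sectU P _ _) (congrFun hxy v)
  let P0 := Limits.pullback 𝒢.hom (Spec.map (CommRingCat.ofHom (AdFn.SInt.toK Sp)))
  let σ : CommRingCat.of K ⟶ Γ(P0, ⊤) := Spec.preimage (P0.isoSpec.inv ≫ pullback.snd _ _)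
  letI : Algebra K Γ(P0, ⊤) := σ.hom.toAlgebra
  have hσ : Spec.map (CommRingCat.ofHom (algebraMap K Γ(P0, ⊤))) = P0.isoSpec.inv ≫ pullback.snd _ _ :=
    Spec.map_preimage _
  let C := Γ(P0, ⊤)
  let π : ∀ v, AdFn.AdeleRing k K →ₐ[K] AdFn.Kv v := fun v =>
    { AdFn.AdeleRing.proj v with commutes' := fun r => rfl }
  let xC : Spec (CommRingCat.of C) ⟶ 𝒢.left := P0.isoSpec.inv ≫ pullback.fst _ _
  have hxC : xC ≫ 𝒢.hom = Spec.map (CommRingCat.ofHom (algebraMap K C)) ≫
      Spec.map (CommRingCat.ofHom (AdFn.SInt.toK Sp)) := by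
    rw [hσ, Category.assoc, Category.assoc, pullback.condition]
  let W : Over (AdFn.specOf (AdFn.SInt.toAd Sp)) :=
    Over.mk (Over.homMk (Spec.map (CommRingCat.ofHom
      (Algebra.TensorProduct.includeRight : AdFn.AdeleRing k K →ₐ[K] C ⊗[K] AdFn.AdeleRing k K).toRingHom)) rfl :
      Over.mk (Spec.map (CommRingCat.ofHom
        (Algebra.TensorProduct.includeRight : AdFn.AdeleRing k K →ₐ[K] C ⊗[K] AdFn.AdeleRing k K).toRingHom) ≫
        (AdFn.specOf (AdFn.SInt.toAd Sp)).hom) ⟶ AdFn.specOf (AdFn.SInt.toAd Sp))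
  let u₀ : W.left ⟶ 𝒢 := Over.homMk (Spec.map (CommRingCat.ofHom
      (algebraMap C (C ⊗[K] AdFn.AdeleRing k K))) ≫ xC) (by
    rw [Category.assoc, hxC]
    change _ = Spec.map _ ≫ Spec.map (CommRingCat.ofHom (AdFn.SInt.toAd Sp))
    simp only [← Spec.map_comp]
    refine congrArg Spec.map (CommRingCat.hom_ext (RingHom.ext fun r => ?_))
    exact (IsScalarTower.algebraMap_apply K C (C ⊗[K] AdFn.AdeleRing k K) r.1).symm.trans
      ((Algebra.TensorProduct.includeRight : AdFn.AdeleRing k K →ₐ[K] C ⊗[K] AdFn.AdeleRing k K).commutes r.1).symm)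
  let uW : ((CGrpSh.pts P 𝒢).over (AdFn.specOf (AdFn.SInt.toAd Sp))).obj.obj (op W) := ULift.up (Additive.ofMul u₀)
  have key : φ.hom.app (op W) uW = ψ.hom.app (op W) uW := by
    refine ULift.ext _ _ (Additive.toMul.injective (Over.OverMorphism.ext ?_))
    refine hom_eq_of_local C (AdFn.AdeleRing k K) (fun v => AdFn.Kv v) π
      (fun a ha => Subtype.ext (funext ha)) _ _ fun v => ?_
    let Wv : Over (AdFn.specOf (AdFn.SInt.toKv Sp v)) :=
      Over.mk (Over.homMk (Spec.map (CommRingCat.ofHom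
        (Algebra.TensorProduct.includeRight : AdFn.Kv v →ₐ[K] C ⊗[K] AdFn.Kv v).toRingHom)) rfl :
        Over.mk (Spec.map (CommRingCat.ofHom
          (Algebra.TensorProduct.includeRight : AdFn.Kv v →ₐ[K] C ⊗[K] AdFn.Kv v).toRingHom) ≫
          (AdFn.specOf (AdFn.SInt.toKv Sp v)).hom) ⟶ AdFn.specOf (AdFn.SInt.toKv Sp v))
    have hmap : Spec.map (CommRingCat.ofHom (Algebra.TensorProduct.map (AlgHom.id K C) (π v)).toRingHom) ≫
        Spec.map (CommRingCat.ofHom
          (Algebra.TensorProduct.includeRight : AdFn.AdeleRing k K →ₐ[K] C ⊗[K] AdFn.AdeleRing k K).toRingHom) =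
        Spec.map (CommRingCat.ofHom
          (Algebra.TensorProduct.includeRight : AdFn.Kv v →ₐ[K] C ⊗[K] AdFn.Kv v).toRingHom) ≫
          (AdFn.adProjSHom Sp v).left := by
      refine ((Spec.map_comp _ _).symm.trans ?_).trans (Spec.map_comp _ _)
      refine congrArg Spec.map (CommRingCat.hom_ext (RingHom.ext fun r => ?_))
      change (Algebra.TensorProduct.map (AlgHom.id K C) (π v)) ((1 : C) ⊗ₜ r) = (1 : C) ⊗ₜ (π v r)
      simp
    let gS : Wv.left ⟶ W.left := Over.homMk
      (Spec.map (CommRingCat.ofHom (Algebra.TensorProduct.map (AlgHom.id K C) (π v)).toRingHom)) (by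
        refine (Category.assoc _ _ _).symm.trans ((congrArg (fun t => t ≫ _) hmap).trans ?_)
        rw [Category.assoc]
        exact congrArg (fun t => _ ≫ t) (Over.w (AdFn.adProjSHom Sp v)))
    let g : (Over.map (AdFn.adProjSHom Sp v)).obj Wv ⟶ W := Over.homMk gS (Over.OverMorphism.ext hmap)
    have h1 := ConcreteCategory.congr_hom (φ.hom.naturality g.op) uW
    have h2 := ConcreteCategory.congr_hom (ψ.hom.naturality g.op) uW
    have h3 := congrArg (fun f => f.hom.app (op Wv) (((CGrpSh.pts P 𝒢).over _).obj.map g.op uW)) (hloc v)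
    have h4 := h1.symm.trans (h3.trans h2)
    exact congrArg (fun t => (t.down.toMul).left) h4
  refine Sheaf.hom_ext (NatTrans.ext (funext fun U => AddCommGrpCat.ext fun z => ?_))
  obtain ⟨U⟩ := U
  obtain ⟨z⟩ := z
  let a : U.left ⟶ 𝒢 := z.toMul
  let c : U.left.left ⟶ Spec (CommRingCat.of C) := pullback.lift a.left
    (U.hom.left ≫ Spec.map (CommRingCat.ofHom (AdFn.AdeleRing.diag (k := k) (K := K)))) (by
      rw [Over.w a, Category.assoc, ← Spec.map_comp]
      exact (Over.w U.hom).symm) ≫ P0.isoSpec.hom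
  have hc : c ≫ Spec.map (CommRingCat.ofHom (algebraMap K C)) =
      U.hom.left ≫ Spec.map (CommRingCat.ofHom (algebraMap K (AdFn.AdeleRing k K))) := by
    rw [hσ]; simp only [c, Category.assoc, Iso.hom_inv_id_assoc, pullback.lift_snd]
    rfl
  let d : U.left.left ⟶ Spec (CommRingCat.of (C ⊗[K] AdFn.AdeleRing k K)) :=
    pullback.lift c U.hom.left hc ≫ (pullbackSpecIso K C (AdFn.AdeleRing k K)).hom
  have hd2 : d ≫ Spec.map (CommRingCat.ofHom
      (Algebra.TensorProduct.includeRight : AdFn.AdeleRing k K →ₐ[K] C ⊗[K] AdFn.AdeleRing k K).toRingHom) =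
      U.hom.left := by
    simp only [d, Category.assoc]
    erw [pullbackSpecIso_hom_snd]
    rw [pullback.lift_snd]
  let dS : U.left ⟶ W.left := Over.homMk d (by
    refine (Category.assoc _ _ _).symm.trans ((congrArg (fun t => t ≫ _) hd2).trans ?_)
    exact Over.w U.hom)
  let g : U ⟶ W := Over.homMk dS (Over.OverMorphism.ext hd2)
  have hz : ((CGrpSh.pts P 𝒢).over _).obj.map g.op uW = ULift.up z := by
    refine ULift.ext _ _ (Additive.toMul.injective (Over.OverMorphism.ext ?_))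
    change d ≫ Spec.map _ ≫ xC = a.left
    simp only [d, Category.assoc]
    erw [pullbackSpecIso_hom_fst'_assoc]
    rw [pullback.lift_fst_assoc]
    simp only [c, xC, Category.assoc, Iso.hom_inv_id_assoc, pullback.lift_fst]
  rw [← hz]
  have h1 := ConcreteCategory.congr_hom (φ.hom.naturality g.op) uW
  have h2 := ConcreteCategory.congr_hom (ψ.hom.naturality g.op) uW
  refine h1.trans (Eq.trans ?_ h2.symm)
  exact congrArg (((CGrpSh2.Gm P (Spec (CommRingCat.of (AdFn.SInt Sp)))).over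
    (AdFn.specOf (AdFn.SInt.toAd Sp))).obj.map g.op) key

end Groth.Agent.TateZero27
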